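import Groth.Agent.Lib.PBasis.MacLane
import Groth.Agent.Lib.PBasis.FieldSmooth
import Mathlib.RingTheory.RingHom.Smooth

/-!
# Separability over the equalizer of a family of pairs of separable embeddings
-/

universe u

namespace Groth.Agent.H60.GenSmooth

open Finset
open Groth.Agent.Lib.PBasis

variable {k K : Type u} [Field k] [Field K] [Algebra k K] (p : ℕ) [Fact p.Prime]
variable {ι : Type*} {M : ι → Type u} [∀ i, Field (M i)] (σ τ : ∀ i, K →+* M i)

theorem exists_relation_base [CharP k p]
    (hk : ∀ i (c : k), σ i (algebraMap k K c) = τ i (algebraMap k K c))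
    (hfix : ∀ x : K, (∀ i, σ i x = τ i x) → x ∈ Set.range (algebraMap k K))
    (hτ : ∀ i, letI := (τ i).toAlgebra; MacLane.IsMacLane p K (M i))
    {T : Type u} [Fintype T] (g : T → k) (v : T → K) (hv : v ≠ 0)
    (hrel : ∑ t, algebraMap k K (g t) * v t ^ p = 0) :
    ∃ c : T → k, c ≠ 0 ∧ ∑ t, g t * c t ^ p = 0 := by
  classical
  haveI : CharP K p := charP_of_injective_algebraMap (algebraMap k K).injective p
  let W : Submodule K (T → K) :=
    { carrier := {a | ∑ t, algebraMap k K (g t) * a t ^ p = 0}
      add_mem' := fun {a b} ha hb => by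
        simp only [Set.mem_ofPred_eq, Pi.add_apply, add_pow_char, mul_add, sum_add_distrib] at ha hb ⊢
        rw [ha, hb, add_zero]
      zero_mem' := by simp [(Fact.out : p.Prime).ne_zero]
      smul_mem' := fun r a ha => by
        simp only [Set.mem_ofPred_eq, Pi.smul_apply, smul_eq_mul] at ha ⊢
        calc ∑ t, algebraMap k K (g t) * (r * a t) ^ p
            = r ^ p * ∑ t, algebraMap k K (g t) * a t ^ p := by
              rw [mul_sum]; exact sum_congr rfl fun t _ => by ring
          _ = 0 := by rw [ha, mul_zero] }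
  let supp : (T → K) → Finset T := fun a => univ.filter fun t => a t ≠ 0
  have hex : ∃ a : T → K, a ∈ W ∧ a ≠ 0 := ⟨v, hrel, hv⟩
  have hex' : ∃ n, ∃ a : T → K, a ∈ W ∧ a ≠ 0 ∧ (supp a).card = n :=
    let ⟨a, h1, h2⟩ := hex; ⟨_, a, h1, h2, rfl⟩
  obtain ⟨a0, ha0, hne0, hcard⟩ := Nat.find_spec hex'
  obtain ⟨j, hj⟩ := Function.ne_iff.1 hne0
  let a : T → K := (a0 j)⁻¹ • a0
  have haW : a ∈ W := W.smul_mem _ ha0
  have haj : a j = 1 := inv_mul_cancel₀ hj
  let S : Finset T := (supp a0).erase j
  have hS : ∀ b ∈ W, (∀ t ∉ S, b t = 0) → b = 0 := fun b hb h0 => by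
    by_contra hbne
    have h1 : supp b ⊆ S := fun t ht => by
      by_contra hc; exact (mem_filter.1 ht).2 (h0 t hc)
    have h2 : j ∈ supp a0 := mem_filter.2 ⟨mem_univ _, hj⟩
    have := (card_le_card h1).trans_lt (card_erase_lt_of_mem h2)
    rw [hcard] at this
    exact Nat.find_min hex' this ⟨b, hb, hbne, rfl⟩
  let π : W →ₗ[K] ({t // t ∉ S} → K) :=
    { toFun := fun b t => (b : T → K) t.1
      map_add' := fun _ _ => rfl
      map_smul' := fun _ _ => rfl }
  have hπ : Function.Injective π := (injective_iff_map_eq_zero π).2 fun b hb =>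
    Subtype.ext (hS b b.2 fun t ht => congrFun hb ⟨t, ht⟩)
  obtain ⟨R, hR⟩ := π.exists_leftInverse_of_injective (LinearMap.ker_eq_bot.2 hπ)
  have key : ∀ (b : T → K), b ∈ W → ∀ t, b t = ∑ l : {t // t ∉ S},
      b l.1 * (R (Pi.single l 1) : T → K) t := fun b hb t => by
    have h1 : (R (π ⟨b, hb⟩) : T → K) = b :=
      congrArg Subtype.val (LinearMap.congr_fun hR ⟨b, hb⟩)
    have h2 : π ⟨b, hb⟩ = ∑ l : {t // t ∉ S}, b l.1 • Pi.single l (1 : K) := by
      funext l
      rw [Finset.sum_apply, sum_eq_single l (fun m _ hm => by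
        simp [Pi.single_eq_of_ne hm.symm]) (fun h => absurd (mem_univ l) h)]
      simp [π]
    conv_lhs => rw [← h1, h2]
    simp [map_sum]
  have heq : ∀ i t, σ i (a t) = τ i (a t) := fun i t => by
    letI := (τ i).toAlgebra
    let e := Module.Free.chooseBasis K (M i)
    let u : Module.Free.ChooseBasisIndex K (M i) → (T → K) := fun m t => e.repr (σ i (a t)) m
    let F : Finset (Module.Free.ChooseBasisIndex K (M i)) :=
      univ.biUnion fun t => (e.repr (σ i (a t))).support
    have hexp : ∀ t, σ i (a t) = ∑ m ∈ F, τ i (u m t) * e m := fun t => by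
      conv_lhs => rw [← e.linearCombination_repr (σ i (a t))]
      rw [Finsupp.linearCombination_apply, Finsupp.sum_of_support_subset _ (s := F)
        (fun x hx => mem_biUnion.2 ⟨t, mem_univ _, hx⟩) (fun m c => c • e m)
        (fun m _ => zero_smul _ _)]
      rfl
    haveI : CharP (M i) p := charP_of_injective_algebraMap (τ i).injective p
    have h0 : ∑ m ∈ F, (∑ t, algebraMap k K (g t) * u m t ^ p) • (e m) ^ p = 0 := by
      have h := congrArg (σ i) (show ∑ t, algebraMap k K (g t) * a t ^ p = 0 from haW)
      simp only [map_sum, map_mul, map_pow, map_zero, hk, hexp] at h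
      rw [← h]
      simp only [Algebra.smul_def, RingHom.algebraMap_toAlgebra, map_sum, map_mul, map_pow,
        sum_mul, sum_pow_char, mul_pow, mul_sum]
      rw [sum_comm]
      exact sum_congr rfl fun t _ => sum_congr rfl fun m _ => by ring
    have hu : ∀ m ∈ F, u m ∈ W := fun m hm =>
      linearIndependent_iff'.1 (hτ i _ e e.linearIndependent) F _ h0 m hm
    have hb : ∀ t, σ i (a t) - τ i (a t) = ∑ l : {t // t ∉ S},
        (σ i (a l.1) - τ i (a l.1)) * τ i ((R (Pi.single l 1) : T → K) t) := fun t => by
      have h1 : σ i (a t) = ∑ l : {t // t ∉ S},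
          σ i (a l.1) * τ i ((R (Pi.single l 1) : T → K) t) := by
        simp only [hexp, sum_mul]
        rw [sum_comm]
        refine sum_congr rfl fun m hm => ?_
        rw [key (u m) (hu m hm) t, map_sum, sum_mul]
        exact sum_congr rfl fun l _ => by rw [map_mul]; ring
      conv_lhs => rw [h1, key a haW t, map_sum]
      rw [← sum_sub_distrib]
      exact sum_congr rfl fun l _ => by rw [map_mul]; ring
    have hz : ∀ l ∉ S, σ i (a l) - τ i (a l) = 0 := fun l hl => by
      by_cases hlj : l = j
      · rw [hlj, haj, map_one, map_one, sub_self]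
      · have : a0 l = 0 := by
          by_contra hc
          exact hl (mem_erase.2 ⟨hlj, mem_filter.2 ⟨mem_univ _, hc⟩⟩)
        simp [a, this]
    refine sub_eq_zero.1 ((hb t).trans ?_)
    exact sum_eq_zero fun l _ => by rw [hz l.1 l.2, zero_mul]
  choose c hc using fun t => hfix (a t) fun i => heq i t
  refine ⟨c, fun h => ?_, (algebraMap k K).injective ?_⟩
  · have := hc j
    rw [h, Pi.zero_apply, map_zero, haj] at this
    exact zero_ne_one this
  · rw [map_zero, map_sum]
    refine Eq.trans (sum_congr rfl fun t _ => ?_) (show ∑ t, algebraMap k K (g t) * a t ^ p = 0 from haW)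
    rw [map_mul, map_pow, hc]

theorem isMacLane_of_equalizer [CharP k p]
    (hk : ∀ i (c : k), σ i (algebraMap k K c) = τ i (algebraMap k K c))
    (hfix : ∀ x : K, (∀ i, σ i x = τ i x) → x ∈ Set.range (algebraMap k K))
    (hτ : ∀ i, letI := (τ i).toAlgebra; MacLane.IsMacLane p K (M i)) :
    MacLane.IsMacLane p k K := by
  classical
  haveI : CharP K p := charP_of_injective_algebraMap (algebraMap k K).injective p
  have main : ∀ (n : ℕ) (T : Type u) [Fintype T], Fintype.card T = n → ∀ (w : T → K),
      LinearIndependent k w → ∀ g : T → k, ∑ t, algebraMap k K (g t) * w t ^ p = 0 → g = 0 := by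
    intro n
    induction n with
    | zero =>
      intro T _ hT w _ g _
      haveI : IsEmpty T := Fintype.card_eq_zero_iff.1 hT
      exact funext isEmptyElim
    | succ n ih =>
      intro T _ hT w hw g hg
      haveI : Nonempty T := Fintype.card_pos_iff.1 (by omega)
      have hw0 : w ≠ 0 := fun h => hw.ne_zero (Classical.arbitrary T) (congrFun h _)
      obtain ⟨c, hc0, hc⟩ := exists_relation_base p σ τ hk hfix hτ g w hw0 hg
      obtain ⟨j, hj⟩ := Function.ne_iff.1 hc0
      let w' : {t // t ≠ j} → K := fun t => w t.1 - algebraMap k K (c t.1 / c j) * w j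
      have hcard : Fintype.card {t // t ≠ j} = n := by
        simp [Fintype.card_subtype_compl, hT]
      have hw' : LinearIndependent k w' := by
        rw [Fintype.linearIndependent_iff]
        intro d hd
        have hw2 := Fintype.linearIndependent_iff.1 hw (fun t => if h : t = j then
          -∑ s : {t // t ≠ j}, d s * (c s.1 / c j) else d ⟨t, h⟩) ?_
        · exact fun t => by simpa [t.2] using hw2 t.1
        · rw [Fintype.sum_eq_add_sum_subtype_ne _ j, ← hd]
          have e1 : ∀ s : {t // t ≠ j}, (if h : (s : T) = j then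
              -∑ s : {t // t ≠ j}, d s * (c s.1 / c j) else d ⟨s.1, h⟩) = d s :=
            fun s => dif_neg s.2
          simp only [e1, dif_pos, w', smul_sub, sum_sub_distrib, neg_smul, sum_smul]
          rw [neg_add_eq_sub]
          refine congrArg _ (sum_congr rfl fun s _ => ?_)
          rw [mul_smul, Algebra.smul_def (c s.1 / c j)]
      have hg' : ∑ t : {t // t ≠ j}, algebraMap k K (g t.1) * w' t ^ p = 0 := by
        have e : ∑ t, algebraMap k K (g t) * (w t - algebraMap k K (c t / c j) * w j) ^ p = 0 := by
          have e2 : ∀ t, algebraMap k K (g t) * (w t - algebraMap k K (c t / c j) * w j) ^ p =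
              algebraMap k K (g t) * w t ^ p -
                algebraMap k K (g t * c t ^ p) * ((algebraMap k K (c j))⁻¹ * w j) ^ p := fun t => by
            rw [sub_pow_char, map_div₀, map_mul, map_pow]; ring
          rw [sum_congr rfl fun t _ => e2 t, sum_sub_distrib, hg, ← sum_mul, ← map_sum, hc, map_zero,
            zero_mul, sub_zero]
        rw [Fintype.sum_eq_add_sum_subtype_ne _ j] at e
        rw [div_self hj, map_one, one_mul, sub_self, zero_pow (Fact.out : p.Prime).ne_zero,
          mul_zero, zero_add] at e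
        exact e
      have h0 := ih _ hcard w' hw' (fun t => g t.1) hg'
      have hother : ∀ t, t ≠ j → g t = 0 := fun t ht => congrFun h0 ⟨t, ht⟩
      funext t
      by_cases ht : t = j
      · subst ht
        rw [sum_eq_single t (fun s _ hs => by rw [hother s hs, zero_mul])
          (fun h => absurd (mem_univ t) h)] at hc
        exact (mul_eq_zero.1 hc).resolve_right (pow_ne_zero _ hj)
      · exact hother t ht
  intro s v hv
  rw [linearIndependent_iff']
  intro F g hg i hi
  refine congrFun (main _ F rfl (fun x => v x.1) (hv.comp _ Subtype.val_injective)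
    (fun x => g x.1) ?_) ⟨i, hi⟩
  rw [← hg, ← Finset.sum_coe_sort F]
  exact sum_congr rfl fun x _ => (Algebra.smul_def _ _).symm

/-- `K / k` is separable if `k` is the equalizer of pairs of embeddings of `K` that are separable on
the second component. -/
theorem formallySmooth_of_equalizer
    (hk : ∀ i (c : k), σ i (algebraMap k K c) = τ i (algebraMap k K c))
    (hfix : ∀ x : K, (∀ i, σ i x = τ i x) → x ∈ Set.range (algebraMap k K))
    (hτ : ∀ i, (τ i).FormallySmooth) :
    Algebra.FormallySmooth k K := by
  rw [FieldSmooth.formallySmooth_iff_isGeometricallyReduced]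
  obtain h | ⟨q, hq, hqk⟩ := CharP.exists' k
  · exact MacLane.isGeometricallyReduced_of_charZero
  · haveI : CharP K q := charP_of_injective_algebraMap (algebraMap k K).injective q
    refine MacLane.isGeometricallyReduced (p := q) (isMacLane_of_equalizer q σ τ hk hfix fun i => ?_)
    letI := (τ i).toAlgebra
    haveI : Algebra.FormallySmooth K (M i) := hτ i
    haveI := (FieldSmooth.formallySmooth_iff_isGeometricallyReduced (k := K) (K := M i)).1 ‹_›
    exact MacLane.isMacLane

end Groth.Agent.H60.GenSmooth
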