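import Groth.Agent.Lib.ArtinAtlas.ActionOps
import Groth.Agent.Lib.ActSep.MaxPt
import Groth.Agent.Lib.GrpSch.SmoothReduced
import Groth.Agent.H60.GenSmooth.FixedSep
import Groth.Prelude.Def_W4bk4git07Quot
import Mathlib.AlgebraicGeometry.FunctionField

/-!
# Invariant rational functions of a geometric quotient
-/

set_option autoImplicit false

universe u

open CategoryTheory CategoryTheory.Limits MonoidalCategory CartesianMonoidalCategory AlgebraicGeometry
open Groth.Agent.Lib.ActSep.MaxPt Opposite TopologicalSpace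

namespace Groth.Agent.H60.GenSmooth

variable {T X : Scheme.{u}}

/-- A maximal point lies in an open as soon as some specialisation does. -/
theorem isMaxPt_of_map_flat (f : T ⟶ X) [Flat f] {w : T} (hw : IsMaxPt w) : IsMaxPt (f w) := by
  intro y hy
  obtain ⟨v, hv, rfl⟩ := Flat.generalizingMap f hy
  rw [hw v hv]

theorem map_maxPt_eq [IsIntegral X] (f : T ⟶ X) [Flat f] {w : T} (hw : IsMaxPt w) :
    f w = genericPoint X :=
  ((isMaxPt_of_map_flat f hw) _ (genericPoint_specializes _)).symm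

/-- A section of a reduced scheme vanishing at all maximal points vanishes. -/
theorem eq_of_germ_maxPt [IsReduced T] {V : T.Opens} (s t : Γ(T, V))
    (h : ∀ w, IsMaxPt w → ∀ hw : w ∈ V, T.presheaf.germ V w hw s = T.presheaf.germ V w hw t) :
    s = t := by
  rw [← sub_eq_zero, ← basicOpen_eq_bot_iff]
  refine le_bot_iff.1 fun x hx => ?_
  obtain ⟨w, hw, hwx⟩ := exists_isMaxPt T x
  have hwV : w ∈ V := hwx.mem_open V.isOpen (T.basicOpen_le _ hx)
  have hwB : w ∈ T.basicOpen (s - t) := hwx.mem_open (T.basicOpen _).isOpen hx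
  have hu := (T.mem_basicOpen (s - t) w hwV).1 hwB
  rw [map_sub, h w hw hwV, sub_self] at hu
  haveI : Nontrivial (T.presheaf.stalk w) := inferInstance
  exact absurd hu not_isUnit_zero

theorem finite_maxPts [IsLocallyNoetherian T] {W : T.Opens} (hW : IsAffineOpen W) :
    {w : T | IsMaxPt w ∧ w ∈ W}.Finite := by
  haveI : IsNoetherianRing Γ(T, W) := IsLocallyNoetherian.component_noetherian ⟨W, hW⟩
  haveI : NoetherianSpace W.1 := noetherianSpace_of_isAffineOpen W hW
  have hmem : ∀ (w : T) (_ : IsMaxPt w) (h : w ∈ W),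
      closure {(⟨w, h⟩ : W.1)} ∈ irreducibleComponents W.1 := fun w hw h => by
    refine ⟨isIrreducible_singleton.closure, fun Z hZ hle z hz => ?_⟩
    have hirr : IsIrreducible (closure (Subtype.val '' Z)) :=
      (hZ.image _ continuous_subtype_val.continuousOn).closure
    have hg := hirr.isGenericPoint_genericPoint isClosed_closure
    have he := hw _ (hg.specializes (subset_closure ⟨_, hle (subset_closure rfl), rfl⟩))
    have := hg.specializes (subset_closure ⟨z, hz, rfl⟩)
    rw [he] at this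
    exact specializes_iff_mem_closure.1 (Topology.IsInducing.subtypeVal.specializes_iff.1 this)
  have hsub : {w : T | IsMaxPt w ∧ w ∈ W} ⊆
      ⋃ Z ∈ irreducibleComponents W.1, Subtype.val '' {z : W.1 | IsGenericPoint z Z} :=
    fun w ⟨hw, h⟩ => Set.mem_biUnion (hmem w hw h) ⟨⟨w, h⟩, rfl, rfl⟩
  refine (Set.Finite.biUnion TopologicalSpace.NoetherianSpace.finite_irreducibleComponents
    fun Z _ => (Set.Subsingleton.finite ?_).image _).subset hsub
  exact fun a ha b hb => IsGenericPoint.eq ha hb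

theorem stalk_eq_of_maxPt [IsReduced T] [IsLocallyNoetherian T] (x : T)
    (s t : T.presheaf.stalk x)
    (h : ∀ w, IsMaxPt w → ∀ hwx : w ⤳ x,
      T.presheaf.stalkSpecializes hwx s = T.presheaf.stalkSpecializes hwx t) : s = t := by
  obtain ⟨U, hxU, s, rfl⟩ := T.presheaf.exists_germ_eq s
  obtain ⟨V, hxV, t, rfl⟩ := T.presheaf.exists_germ_eq t
  obtain ⟨W, hW, hxW, hWUV⟩ := exists_isAffineOpen_mem_and_subset (U := U ⊓ V) ⟨hxU, hxV⟩
  let F := {w : T | (IsMaxPt w ∧ w ∈ W) ∧ ¬ w ⤳ x}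
  have hF : F.Finite := (finite_maxPts hW).subset fun w hw => hw.1
  let W' : T.Opens := ⟨(W : Set T) \ ⋃ w ∈ F, closure {w},
    W.isOpen.sdiff (hF.isClosed_biUnion fun w _ => isClosed_closure)⟩
  have hxW' : x ∈ W' := ⟨hxW, fun hx => by
    obtain ⟨w, hwF, hx⟩ := Set.mem_iUnion₂.1 hx
    exact hwF.2 (specializes_iff_mem_closure.2 hx)⟩
  have hU : W' ≤ U := fun _ hy => (hWUV hy.1).1
  have hV : W' ≤ V := fun _ hy => (hWUV hy.1).2
  rw [← T.presheaf.germ_res_apply (homOfLE hU) x hxW' s,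
    ← T.presheaf.germ_res_apply (homOfLE hV) x hxW' t]
  refine congrArg _ (eq_of_germ_maxPt _ _ fun w hw hwW => ?_)
  have hwx : w ⤳ x := by
    by_contra hc
    exact hwW.2 (Set.mem_biUnion (show w ∈ F from ⟨⟨hw, hwW.1⟩, hc⟩) (subset_closure rfl))
  have e := h w hw hwx
  rw [TopCat.Presheaf.germ_stalkSpecializes_apply, TopCat.Presheaf.germ_stalkSpecializes_apply] at e
  rw [TopCat.Presheaf.germ_res_apply, TopCat.Presheaf.germ_res_apply]
  exact e

/-- The map from the function field to the stalk at a point over the generic point. -/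
noncomputable def ρ [IrreducibleSpace X] (f : T ⟶ X) (w : T) (h : f w = genericPoint X) :
    X.functionField ⟶ T.presheaf.stalk w :=
  X.presheaf.stalkSpecializes (specializes_of_eq h) ≫ f.stalkMap w

theorem ρ_germ [IrreducibleSpace X] (f : T ⟶ X) (w : T) (h : f w = genericPoint X) (V : X.Opens)
    (hV : genericPoint X ∈ V) (s : Γ(X, V)) :
    ρ f w h (X.presheaf.germ V _ hV s) =
      T.presheaf.germ (f ⁻¹ᵁ V) w (show f w ∈ V by rw [h]; exact hV) (f.app V s) := by
  change f.stalkMap w (X.presheaf.stalkSpecializes (specializes_of_eq h) (X.presheaf.germ V _ hV s)) = _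
  rw [TopCat.Presheaf.germ_stalkSpecializes_apply]
  exact f.germ_stalkMap_apply V w _ s

/-- The rational function `f` is regular at `x`. -/
def RegAt [IrreducibleSpace X] (f : X.functionField) (x : X) : Prop :=
  f ∈ Set.range (X.presheaf.stalkSpecializes (genericPoint_specializes x))

theorem regAt_germ [IrreducibleSpace X] {V : X.Opens} (hg : genericPoint X ∈ V) (s : Γ(X, V))
    {x : X} (hx : x ∈ V) : RegAt (X.presheaf.germ V _ hg s) x :=
  ⟨X.presheaf.germ V x hx s, TopCat.Presheaf.germ_stalkSpecializes_apply _ hx _ s⟩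

theorem regAt_trans [IsIntegral X] [IsReduced T] [IsLocallyNoetherian T] (g h : T ⟶ X) [Flat g]
    [Flat h] (f : X.functionField)
    (hf : ∀ w (hw : IsMaxPt w), ρ g w (map_maxPt_eq g hw) f = ρ h w (map_maxPt_eq h hw) f)
    (w : T) (hreg : RegAt f (g w)) : RegAt f (h w) := by
  obtain ⟨s, hs⟩ := hreg
  obtain ⟨⟨n, d⟩, hnd⟩ := IsLocalization.surj (nonZeroDivisors (X.presheaf.stalk (h w))) f
  have hnd' : f * X.presheaf.stalkSpecializes (genericPoint_specializes (h w)) d.1 =
      X.presheaf.stalkSpecializes (genericPoint_specializes (h w)) n := hnd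
  have key : h.stalkMap w n = g.stalkMap w s * h.stalkMap w d.1 := by
    refine stalk_eq_of_maxPt w _ _ fun v hv hvw => ?_
    rw [map_mul]
    have e : ∀ (k : T ⟶ X) [Flat k] (z : X.presheaf.stalk (k w)),
        T.presheaf.stalkSpecializes hvw (k.stalkMap w z) =
          ρ k v (map_maxPt_eq k hv) (X.presheaf.stalkSpecializes (genericPoint_specializes _) z) := by
      intro k _ z
      obtain ⟨V, hV, z, rfl⟩ := X.presheaf.exists_germ_eq z
      rw [TopCat.Presheaf.germ_stalkSpecializes_apply, ρ_germ, Scheme.Hom.germ_stalkMap_apply,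
        TopCat.Presheaf.germ_stalkSpecializes_apply]
    rw [e, e, e, hs, hf v hv, ← map_mul, hnd']
  have hmem : h.stalkMap w n ∈ (Ideal.span {d.1}).map (h.stalkMap w).hom := by
    rw [Ideal.map_span, Set.image_singleton, Ideal.mem_span_singleton']
    exact ⟨g.stalkMap w s, key.symm⟩
  letI := (h.stalkMap w).hom.toAlgebra
  haveI : Module.Flat (X.presheaf.stalk (h w)) (T.presheaf.stalk w) := Flat.stalkMap h w
  haveI : IsLocalHom (algebraMap (X.presheaf.stalk (h w)) (T.presheaf.stalk w)) :=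
    inferInstanceAs (IsLocalHom (h.stalkMap w).hom)
  haveI : Module.FaithfullyFlat (X.presheaf.stalk (h w)) (T.presheaf.stalk w) :=
    Module.FaithfullyFlat.of_flat_of_isLocalHom
  have : n ∈ Ideal.span {d.1} := by
    rw [← Ideal.comap_map_eq_self_of_faithfullyFlat (B := T.presheaf.stalk w) (Ideal.span {d.1})]
    exact hmem
  obtain ⟨c, hc⟩ := Ideal.mem_span_singleton'.1 this
  refine ⟨c, mul_right_cancel₀ ?_ ((?_ : _ = _).trans hnd'.symm)⟩
  · exact IsFractionRing.to_map_ne_zero_of_mem_nonZeroDivisors d.2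
  · rw [← map_mul, hc]

variable {K : Type u} [Field K] {Γ' X' Y' : Over (Spec (CommRingCat.of K))} [GrpObj Γ']

theorem act_eq_shear (a : AlgGrp.Action Γ' X') :
    a.act.left = (Lib.ArtinAtlas.ActOps.shear a).hom.left ≫ (snd Γ' X').left :=
  congrArg CommaMorphism.left
    (show a.act = (Lib.ArtinAtlas.ActOps.shear a).hom ≫ snd Γ' X' from (lift_snd _ _).symm)

theorem smooth_act [Smooth Γ'.hom] (a : AlgGrp.Action Γ' X') :
    Smooth a.act.left ∧ Smooth (snd Γ' X').left := by
  haveI : Smooth (snd Γ' X').left := inferInstanceAs (Smooth (pullback.snd Γ'.hom X'.hom))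
  haveI : IsIso (Lib.ArtinAtlas.ActOps.shear a).hom.left :=
    inferInstanceAs (IsIso ((Over.forget _).map (Lib.ArtinAtlas.ActOps.shear a).hom))
  rw [act_eq_shear]
  exact ⟨inferInstance, inferInstance⟩

/-- A rational function fixed by the action comes from the base of a geometric quotient. -/
theorem mem_range_of_fixed (a : AlgGrp.Action Γ' X') (π : X' ⟶ Y') (hπ : GIT.IsGeomQuot a π)
    [IsIntegral X'.left] [IsReduced (Γ' ⊗ X').left] [IsLocallyNoetherian (Γ' ⊗ X').left]
    [Flat a.act.left] [Flat (snd Γ' X').left] (f : X'.left.functionField)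
    (hf : ∀ w (hw : IsMaxPt w), ρ a.act.left w (map_maxPt_eq _ hw) f =
      ρ (snd Γ' X').left w (map_maxPt_eq _ hw) f) :
    f ∈ Set.range (π.left.stalkMap (genericPoint X'.left)) := by
  let dom : Set X'.left := {x | RegAt f x}
  have hopen : IsOpen dom := by
    rw [isOpen_iff_forall_mem_open]
    intro x hx
    obtain ⟨s, rfl⟩ := hx
    obtain ⟨V, hV, s, rfl⟩ := X'.left.presheaf.exists_germ_eq s
    refine ⟨V, fun y hy => ?_, V.isOpen, hV⟩
    change RegAt _ y
    rw [TopCat.Presheaf.germ_stalkSpecializes_apply]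
    exact regAt_germ _ s hy
  have hξ : genericPoint X'.left ∈ dom := ⟨f, ConcreteCategory.congr_hom (X'.left.presheaf.stalkSpecializes_refl (genericPoint X'.left)) f⟩
  have hsat : π.left ⁻¹' (π.left '' dom) = dom := by
    refine subset_antisymm (fun x ⟨x₀, hx₀, he⟩ => ?_) (Set.subset_preimage_image _ _)
    obtain ⟨z, hz1, hz2⟩ := Scheme.Pullback.exists_preimage_pullback x x₀ he.symm
    obtain ⟨w, rfl⟩ := hπ.orbit z
    have e1 : a.act.left w = x := by
      rw [← hz1]
      change _ = ((GIT.PsiY a π hπ.inv) ≫ pullback.fst π.left π.left) w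
      rw [GIT.PsiY, pullback.lift_fst]
    have e2 : (snd Γ' X').left w = x₀ := by
      rw [← hz2]
      change _ = ((GIT.PsiY a π hπ.inv) ≫ pullback.snd π.left π.left) w
      rw [GIT.PsiY, pullback.lift_snd]
    rw [← e1]
    exact regAt_trans (snd Γ' X').left a.act.left f (fun v hv => (hf v hv).symm) w (e2 ▸ hx₀)
  have hq : Topology.IsQuotientMap π.left := MorphismProperty.universally_le _ _ hπ.subm
  let U : Y'.left.Opens := ⟨π.left '' dom, by rw [← hq.isOpen_preimage, hsat]; exact hopen⟩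
  have hpre : (π.left ⁻¹ᵁ U : Set X'.left) = dom := hsat
  have hloc : ∀ x : ↥(π.left ⁻¹ᵁ U), ∃ (V : X'.left.Opens) (_ : x.1 ∈ V)
      (hg : genericPoint X'.left ∈ V) (s : Γ(X'.left, V)), X'.left.presheaf.germ V _ hg s = f := by
    rintro ⟨x, hx⟩
    obtain ⟨s, hs⟩ : x ∈ dom := hpre ▸ hx
    obtain ⟨V, hV, s, rfl⟩ := X'.left.presheaf.exists_germ_eq s
    refine ⟨V, hV, (genericPoint_specializes x).mem_open V.isOpen hV, s, ?_⟩
    rw [← hs, TopCat.Presheaf.germ_stalkSpecializes_apply]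
  choose V hxV hgV s hs using hloc
  have hcov : π.left ⁻¹ᵁ U ≤ iSup (fun x => V x ⊓ π.left ⁻¹ᵁ U) := fun x hx =>
    Opens.mem_iSup.2 ⟨⟨x, hx⟩, hxV ⟨x, hx⟩, hx⟩
  let t : ∀ x, Γ(X'.left, V x ⊓ π.left ⁻¹ᵁ U) :=
    fun x => X'.left.presheaf.map (homOfLE inf_le_left).op (s x)
  have hξU : genericPoint X'.left ∈ π.left ⁻¹ᵁ U := (Set.ext_iff.1 hpre _).2 hξ
  have hinj : ∀ (W : X'.left.Opens) (hW : genericPoint X'.left ∈ W),
      Function.Injective (X'.left.presheaf.germ W _ hW) := fun W hW => by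
    haveI : Nonempty W := ⟨⟨_, hW⟩⟩
    exact germ_injective_of_isIntegral (X := X'.left) _ hW
  obtain ⟨τ, hτ, -⟩ := TopCat.Sheaf.existsUnique_gluing' X'.left.sheaf _ (π.left ⁻¹ᵁ U)
    (fun x => homOfLE inf_le_right) hcov t (fun x y => by
      refine hinj (V x ⊓ π.left ⁻¹ᵁ U ⊓ (V y ⊓ π.left ⁻¹ᵁ U)) ⟨⟨hgV x, hξU⟩, hgV y, hξU⟩ ?_
      change X'.left.presheaf.germ _ _ _ (X'.left.presheaf.map _ _) =
        X'.left.presheaf.germ _ _ _ (X'.left.presheaf.map _ _)
      rw [TopCat.Presheaf.germ_res_apply, TopCat.Presheaf.germ_res_apply]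
      simp only [t, TopCat.Presheaf.germ_res_apply, hs])
  have hτf : X'.left.presheaf.germ _ _ hξU τ = f := by
    let x₀ : ↥(π.left ⁻¹ᵁ U) := ⟨_, hξU⟩
    rw [← TopCat.Presheaf.germ_res_apply X'.left.presheaf (homOfLE inf_le_right) _
      (show genericPoint X'.left ∈ V x₀ ⊓ π.left ⁻¹ᵁ U from ⟨hgV x₀, hξU⟩) τ]
    refine (congrArg _ (hτ x₀)).trans ?_
    simp only [t, TopCat.Presheaf.germ_res_apply, hs]
  have hinv : τ ∈ {g | GIT.IsInvSection a π U g} := by
    refine eq_of_germ_maxPt _ _ fun w hw hwW => ?_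
    have e := hf w hw
    rw [← hτf, ρ_germ, ρ_germ] at e
    simp only [Scheme.Hom.appLE, ConcreteCategory.comp_apply, TopCat.Presheaf.germ_res_apply]
    exact e
  rw [← (hπ.sections U).2] at hinv
  obtain ⟨u, hu⟩ := hinv
  refine ⟨Y'.left.presheaf.germ U _ hξU u, ?_⟩
  rw [Scheme.Hom.germ_stalkMap_apply, hu]
  exact hτf

end Groth.Agent.H60.GenSmooth
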