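import Groth.Agent.H60.GenSmooth.Fixed
import Mathlib.AlgebraicGeometry.Fiber

/-!
# Generic smoothness of geometric quotients by smooth groups
-/

set_option autoImplicit false

universe u

open CategoryTheory CategoryTheory.Limits MonoidalCategory CartesianMonoidalCategory AlgebraicGeometry
open Groth.Agent.Lib.ActSep.MaxPt Opposite TopologicalSpace

namespace Groth.Agent.H60.GenSmooth

theorem germ_app_congr {T X : Scheme.{u}} (f g : T ⟶ X) (e : f = g) (U : X.Opens) (s : Γ(X, U))
    (w : T) (h : f w ∈ U) (h' : g w ∈ U) :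
    T.presheaf.germ (f ⁻¹ᵁ U) w h (f.app U s) = T.presheaf.germ (g ⁻¹ᵁ U) w h' (g.app U s) := by
  subst e; rfl

theorem isReduced_base {K : Type u} [Field K] {Γ' X' Y' : Over (Spec (CommRingCat.of K))}
    [GrpObj Γ'] [IsReduced X'.left] (a : AlgGrp.Action Γ' X') (π : X' ⟶ Y')
    (hπ : GIT.IsGeomQuot a π) : IsReduced Y'.left :=
  ⟨fun U => isReduced_of_injective (π.left.app U).hom (hπ.sections U).1⟩

theorem formallySmooth_stalkMap_generic {K : Type u} [Field K]
    (Γ' X' Y' : Over (Spec (CommRingCat.of K))) [GrpObj Γ'] [Smooth Γ'.hom] [IsIntegral X'.left]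
    [LocallyOfFiniteType X'.hom] (a : AlgGrp.Action Γ' X') (π : X' ⟶ Y')
    (hπ : GIT.IsGeomQuot a π) [IsIntegral Y'.left] (hη : π.left (genericPoint X'.left) = genericPoint Y'.left) :
    (π.left.stalkMap (genericPoint X'.left)).hom.FormallySmooth := by
  obtain ⟨hs1, hs2⟩ := smooth_act a
  haveI : IsLocallyNoetherian X'.left := LocallyOfFiniteType.isLocallyNoetherian X'.hom
  haveI : IsLocallyNoetherian (Γ' ⊗ X').left :=
    LocallyOfFiniteType.isLocallyNoetherian (snd Γ' X').left
  haveI : GeometricallyReduced Γ'.hom := Lib.GrpSch.geometricallyReduced_of_smooth_field _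
  haveI : IsReduced (Γ' ⊗ X').left := inferInstanceAs (IsReduced (pullback Γ'.hom X'.hom))
  let ι := {w : (Γ' ⊗ X').left // IsMaxPt w}
  have hF : ∀ w : ι, IsField ((Γ' ⊗ X').left.presheaf.stalk w.1) := fun w => by
    refine isField_stalk_of_closure_mem_irreducibleComponents _ _
      ⟨isIrreducible_singleton.closure, fun Z hZ hle => ?_⟩
    have hg := hZ.closure.isGenericPoint_genericPoint isClosed_closure
    have he := w.2 _ (hg.specializes (subset_closure (hle (subset_closure rfl))))
    rw [← he, hg.def]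
    exact subset_closure
  letI : ∀ w : ι, Field ((Γ' ⊗ X').left.presheaf.stalk w.1) := fun w => (hF w).toField
  have hk0 : IsField (Y'.left.presheaf.stalk (π.left (genericPoint X'.left))) := by
    rw [hη]; exact Field.toIsField Y'.left.functionField
  letI : Field (Y'.left.presheaf.stalk (π.left (genericPoint X'.left))) := hk0.toField
  letI : Algebra (Y'.left.presheaf.stalk (π.left (genericPoint X'.left))) X'.left.functionField :=
    (π.left.stalkMap (genericPoint X'.left)).hom.toAlgebra
  refine formallySmooth_of_equalizer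
    (M := fun w : ι => (Γ' ⊗ X').left.presheaf.stalk w.1)
    (fun w => (ρ a.act.left w.1 (map_maxPt_eq _ w.2)).hom)
    (fun w => (ρ (snd Γ' X').left w.1 (map_maxPt_eq _ w.2)).hom)
    (fun w c => ?_) (fun f hf => ?_) (fun w => ?_)
  · obtain ⟨U, hU, c, rfl⟩ := Y'.left.presheaf.exists_germ_eq c
    change ρ a.act.left w.1 _ (π.left.stalkMap _ (Y'.left.presheaf.germ U _ hU c)) =
      ρ (snd Γ' X').left w.1 _ (π.left.stalkMap _ (Y'.left.presheaf.germ U _ hU c))
    rw [Scheme.Hom.germ_stalkMap_apply, ρ_germ, ρ_germ]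
    exact germ_app_congr (a.act.left ≫ π.left) ((snd Γ' X').left ≫ π.left)
      (congrArg CommaMorphism.left hπ.inv) U c w.1 _ _
  · exact mem_range_of_fixed a π hπ f fun w hw => hf ⟨w, hw⟩
  · change ((snd Γ' X').left.stalkMap w.1).hom.comp _ |>.FormallySmooth
    refine RingHom.FormallySmooth.comp (RingHom.FormallySmooth.of_bijective ?_) ?_
    · haveI : IsIso (X'.left.presheaf.stalkSpecializes
          (specializes_of_eq (map_maxPt_eq (snd Γ' X').left w.2))) :=
        inferInstanceAs (IsIso (X'.left.presheaf.stalkCongr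
          (.of_eq (map_maxPt_eq (snd Γ' X').left w.2).symm)).hom)
      exact ConcreteCategory.bijective_of_isIso (X'.left.presheaf.stalkSpecializes
        (specializes_of_eq (map_maxPt_eq (snd Γ' X').left w.2)))
    · exact (Scheme.Hom.mem_smoothLocus (f := (snd Γ' X').left) (x := w.1)).1
        (by rw [Scheme.Hom.smoothLocus_eq_top]; trivial)

theorem mem_smoothLocus_iff_of_isPullback {P X Y Y' : Scheme.{u}} {fst : P ⟶ X} {snd : P ⟶ Y'}
    {f : X ⟶ Y} {g : Y' ⟶ Y} (h : IsPullback fst snd f g) [LocallyOfFinitePresentation f]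
    [LocallyOfFinitePresentation snd] [Flat g] (p : P) :
    p ∈ snd.smoothLocus ↔ fst p ∈ f.smoothLocus := by
  have e := H75.BaseChange.mem_smoothLocus_snd_iff f g (h.isoPullback.hom p)
    (Or.inr (Flat.stalkMap g _))
  rw [← Scheme.Hom.comp_apply, h.isoPullback_hom_fst] at e
  rw [← e, ← Lib.ArtinAtlas.ActOps.preimage_smoothLocus_of_comp_eq h.isoPullback.hom
    (pullback.snd f g) snd h.isoPullback_hom_snd]
  rfl

theorem smooth_fiber {K : Type u} [Field K]
    (Γ' X' Y' : Over (Spec (CommRingCat.of K))) [GrpObj Γ'] [Smooth Γ'.hom] [IsIntegral X'.left]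
    [LocallyOfFiniteType X'.hom] (a : AlgGrp.Action Γ' X') (π : X' ⟶ Y')
    (hπ : GIT.IsGeomQuot a π) [IrreducibleSpace Y'.left] :
    Smooth (π.left.fiberToSpecResidueField (genericPoint Y'.left)) := by
  haveI := isReduced_base a π hπ
  haveI : IsIntegral Y'.left := isIntegral_of_irreducibleSpace_of_isReduced _
  have hη : π.left (genericPoint X'.left) = genericPoint Y'.left := by
    refine (genericPoint_spec Y'.left).eq ?_ |>.symm
    have := (genericPoint_spec X'.left).image π.left.continuous
    rwa [Set.image_univ, Set.range_eq_univ.2 hπ.surj, closure_univ] at this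
  haveI : LocallyOfFiniteType π.left := by
    haveI : LocallyOfFiniteType (π.left ≫ Y'.hom) := by rw [Over.w π]; infer_instance
    exact locallyOfFiniteType_of_comp π.left Y'.hom
  let η := genericPoint Y'.left
  let q := π.left.fiberToSpecResidueField η
  haveI : LocallyOfFiniteType q := inferInstanceAs (LocallyOfFiniteType (pullback.snd _ _))
  haveI : LocallyOfFinitePresentation q := inferInstance
  have w₀ : π.left.fiberι η ≫ π.left = q ≫ Y'.left.fromSpecResidueField η := pullback.condition
  have hsmooth : ∀ z, π.left.fiberι η z = genericPoint X'.left → z ∈ q.smoothLocus := by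
    intro z hz
    rw [Scheme.Hom.mem_smoothLocus]
    have hι : Function.Bijective ((π.left.fiberι η).stalkMap z).hom := by
      refine ⟨?_, (π.left.fiberι η).stalkMap_surjective z⟩
      have : IsField (X'.left.presheaf.stalk (π.left.fiberι η z)) := by
        rw [hz]; exact Field.toIsField X'.left.functionField
      letI := this.toField
      exact RingHom.injective _
    have hg : Function.Bijective ((Y'.left.fromSpecResidueField η).stalkMap (q z)).hom := by
      refine ⟨?_, (Y'.left.fromSpecResidueField η).stalkMap_surjective _⟩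
      have hy : (Y'.left.fromSpecResidueField η) (q z) = η := Y'.left.fromSpecResidueField_apply _ _
      have : IsField (Y'.left.presheaf.stalk (Y'.left.fromSpecResidueField η (q z))) := by
        rw [hy]; exact Field.toIsField Y'.left.functionField
      letI := this.toField
      exact RingHom.injective _
    have hπz : (π.left.stalkMap (π.left.fiberι η z)).hom.FormallySmooth := by
      rw [hz]; exact formallySmooth_stalkMap_generic Γ' X' Y' a π hπ hη
    have hcomp : ((π.left.fiberι η ≫ π.left).stalkMap z).hom.FormallySmooth := by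
      rw [Scheme.Hom.stalkMap_comp]
      exact RingHom.FormallySmooth.comp hπz (RingHom.FormallySmooth.of_bijective hι)
    rw [Scheme.Hom.stalkMap_congr_hom _ _ w₀] at hcomp
    have h2 : (((q ≫ Y'.left.fromSpecResidueField η)).stalkMap z).hom.FormallySmooth :=
      (RingHom.FormallySmooth.respectsIso.cancel_left_isIso
        (Y'.left.presheaf.stalkCongr (.of_eq (congrArg (fun f : π.left.fiber η ⟶ Y'.left => f z) w₀))).hom
        ((q ≫ Y'.left.fromSpecResidueField η).stalkMap z)).1 hcomp
    rw [Scheme.Hom.stalkMap_comp] at h2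
    haveI : IsIso ((Y'.left.fromSpecResidueField η).stalkMap (q z)) :=
      (ConcreteCategory.isIso_iff_bijective _).2 hg
    exact (RingHom.FormallySmooth.respectsIso.cancel_left_isIso
      ((Y'.left.fromSpecResidueField η).stalkMap (q z)) (q.stalkMap z)).1 h2
  -- translate the smooth point around the fibre
  let E : Over (Spec (CommRingCat.of K)) := Over.mk (π.left.fiberι η ≫ X'.hom)
  let j : E ⟶ X' := Over.homMk (π.left.fiberι η) rfl
  let B : Over (Spec (CommRingCat.of K)) := Over.mk (Y'.left.fromSpecResidueField η ≫ Y'.hom)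
  let q' : E ⟶ B := Over.homMk q (by
    change q ≫ Y'.left.fromSpecResidueField η ≫ Y'.hom = π.left.fiberι η ≫ X'.hom
    rw [← Category.assoc, ← w₀, Category.assoc, Over.w π])
  have hc : (((Γ' ◁ j) ≫ a.act).left) ≫ π.left =
      ((snd Γ' E).left ≫ q) ≫ Y'.left.fromSpecResidueField η := by
    rw [Category.assoc, ← w₀]
    have h1 : ((Γ' ◁ j) ≫ a.act ≫ π) = snd Γ' E ≫ j ≫ π := by
      rw [show a.act ≫ π = snd Γ' X' ≫ π from hπ.inv, whiskerLeft_snd_assoc]
    simpa [j] using congrArg CommaMorphism.left h1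
  let b : Γ' ⊗ E ⟶ E := Over.homMk (pullback.lift ((Γ' ◁ j) ≫ a.act).left ((snd Γ' E).left ≫ q) hc) (by
    change _ ≫ π.left.fiberι η ≫ X'.hom = (Γ' ⊗ E).hom
    refine (pullback.lift_fst_assoc _ _ hc _).trans ?_
    exact Over.w ((Γ' ◁ j) ≫ a.act))
  haveI : Mono j := Over.mono_of_mono_left (hk := inferInstanceAs (Mono (π.left.fiberι η))) j
  have hbj : b ≫ j = (Γ' ◁ j) ≫ a.act := Over.OverMorphism.ext (pullback.lift_fst _ _ _)
  have hbq : b ≫ q' = snd Γ' E ≫ q' := Over.OverMorphism.ext (pullback.lift_snd _ _ _)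
  let a' : AlgGrp.Action Γ' E :=
    { act := b
      mul_act := by
        rw [← cancel_mono j, Category.assoc, hbj, ← Category.assoc, ← whisker_exchange, Category.assoc,
          a.mul_act, Category.assoc, Category.assoc, hbj, ← whiskerLeft_comp_assoc, hbj,
          whiskerLeft_comp_assoc, associator_naturality_right_assoc]
      one_act := by
        rw [← cancel_mono j, Category.assoc, hbj, ← Category.assoc, ← whisker_exchange, Category.assoc,
          a.one_act, leftUnitor_naturality] }
  haveI : Flat (snd Γ' B).left := inferInstanceAs (Flat (pullback.snd Γ'.hom B.hom))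
  haveI : LocallyOfFinitePresentation q'.left := inferInstanceAs (LocallyOfFinitePresentation q)
  let r : (Γ' ⊗ E).left ⟶ (Γ' ⊗ B).left := (Γ' ◁ q').left
  have hpb : IsPullback (snd Γ' E).left r q'.left (snd Γ' B).left :=
    ((AlgSt.isPullback_whiskerLeft (G := Γ') q').map (Over.forget _)).flip
  haveI : LocallyOfFinitePresentation r :=
    MorphismProperty.of_isPullback (P := @LocallyOfFinitePresentation) hpb ‹_›
  let s := (Lib.ArtinAtlas.ActOps.shear a').hom.left
  haveI : IsIso s := inferInstanceAs (IsIso ((Over.forget _).map (Lib.ArtinAtlas.ActOps.shear a').hom))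
  have hsr : s ≫ r = r := congrArg CommaMorphism.left
    (show (Lib.ArtinAtlas.ActOps.shear a').hom ≫ Γ' ◁ q' = Γ' ◁ q' by
      apply CartesianMonoidalCategory.hom_ext
      · simp [Lib.ArtinAtlas.ActOps.shear]
      · rw [Category.assoc, whiskerLeft_snd, ← Category.assoc]
        simp only [Lib.ArtinAtlas.ActOps.shear, lift_snd]
        exact hbq)
  have hinvar : ∀ w : (Γ' ⊗ E).left, b.left w ∈ q.smoothLocus ↔ (snd Γ' E).left w ∈ q.smoothLocus := by
    intro w
    have h1 := mem_smoothLocus_iff_of_isPullback hpb (s w)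
    have h2 := mem_smoothLocus_iff_of_isPullback hpb w
    rw [← Scheme.Hom.comp_apply, show s ≫ (snd Γ' E).left = b.left from (act_eq_shear a').symm] at h1
    refine h1.symm.trans (Iff.trans ?_ h2)
    conv_rhs => rw [← Lib.ArtinAtlas.ActOps.preimage_smoothLocus_of_comp_eq s r r hsr]
    rfl
  rw [← Scheme.Hom.smoothLocus_eq_top_iff, eq_top_iff]
  intro z _
  obtain ⟨z₀, hz₀⟩ : genericPoint X'.left ∈ Set.range (π.left.fiberι η) := by
    rw [π.left.range_fiberι]; exact hη
  have hzη : π.left (π.left.fiberι η z) = η := by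
    have : π.left.fiberι η z ∈ π.left ⁻¹' {η} := by rw [← π.left.range_fiberι]; exact ⟨z, rfl⟩
    exact this
  obtain ⟨p, hp1, hp2⟩ := Scheme.Pullback.exists_preimage_pullback
    (π.left.fiberι η z) (genericPoint X'.left) (hzη.trans hη.symm)
  obtain ⟨w, rfl⟩ := hπ.orbit p
  have e1 : a.act.left w = π.left.fiberι η z := by
    rw [← hp1]
    change _ = ((GIT.PsiY a π hπ.inv) ≫ pullback.fst π.left π.left) w
    rw [GIT.PsiY, pullback.lift_fst]
  have e2 : (snd Γ' X').left w = π.left.fiberι η z₀ := by
    rw [hz₀, ← hp2]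
    change _ = ((GIT.PsiY a π hπ.inv) ≫ pullback.snd π.left π.left) w
    rw [GIT.PsiY, pullback.lift_snd]
  have hj : IsPullback (Γ' ◁ j).left (snd Γ' E).left (snd Γ' X').left j.left :=
    ((AlgSt.isPullback_whiskerLeft (G := Γ') j).map (Over.forget _))
  obtain ⟨v, hv1, hv2⟩ := Scheme.Pullback.exists_preimage_pullback w z₀ e2
  let v' := hj.isoPullback.inv v
  have g1 : (Γ' ◁ j).left v' = w := by
    rw [← hv1, ← Scheme.Hom.comp_apply, hj.isoPullback_inv_fst]; rfl
  have g2 : (snd Γ' E).left v' = z₀ := by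
    rw [← hv2, ← Scheme.Hom.comp_apply, hj.isoPullback_inv_snd]; rfl
  have g3 : b.left v' = z := by
    refine (π.left.fiberι η).isEmbedding.injective ?_
    have e3 : (b ≫ j).left v' = ((Γ' ◁ j) ≫ a.act).left v' := by rw [hbj]
    change (b ≫ j).left v' = _
    rw [e3, ← e1, ← g1]
    rfl
  rw [← g3]
  exact (hinvar v').2 (g2 ▸ hsmooth z₀ hz₀)

end Groth.Agent.H60.GenSmooth
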